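import Cfsg.Agent.H15.YB.Y2.D

/-! Generated by tools/h15/yb.py. -/

set_option maxRecDepth 100000
set_option maxHeartbeats 0
set_option Elab.async false

namespace H15.YB.Y2

open H16 H16.DC
open H26 (jn)

theorem sj47_0 : allZ (slJ T (nat_lit 15) (nth [] Ws (nat_lit 47)) (nth (BT.leaf 0) Ts (nat_lit 47))) (nat_lit 0) (nat_lit 15) = true := by decide +kernel
theorem sj48_0 : allZ (slJ T (nat_lit 15) (nth [] Ws (nat_lit 48)) (nth (BT.leaf 0) Ts (nat_lit 48))) (nat_lit 0) (nat_lit 15) = true := by decide +kernel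
theorem sj49_0 : allZ (slJ T (nat_lit 15) (nth [] Ws (nat_lit 49)) (nth (BT.leaf 0) Ts (nat_lit 49))) (nat_lit 0) (nat_lit 15) = true := by decide +kernel
theorem sj50_0 : allZ (slJ T (nat_lit 15) (nth [] Ws (nat_lit 50)) (nth (BT.leaf 0) Ts (nat_lit 50))) (nat_lit 0) (nat_lit 15) = true := by decide +kernel
theorem sj51_0 : allZ (slJ T (nat_lit 15) (nth [] Ws (nat_lit 51)) (nth (BT.leaf 0) Ts (nat_lit 51))) (nat_lit 0) (nat_lit 15) = true := by decide +kernel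
theorem sj52_0 : allZ (slJ T (nat_lit 15) (nth [] Ws (nat_lit 52)) (nth (BT.leaf 0) Ts (nat_lit 52))) (nat_lit 0) (nat_lit 15) = true := by decide +kernel
theorem sj53_0 : allZ (slJ T (nat_lit 15) (nth [] Ws (nat_lit 53)) (nth (BT.leaf 0) Ts (nat_lit 53))) (nat_lit 0) (nat_lit 15) = true := by decide +kernel
theorem hd : T.n ≤ 2 ^ (nat_lit 15) ∧ (nat_lit 15) < 256 ∧ M = geo 256 (nat_lit 15) := by decide +kernel
theorem qc : q.chk = true := by decide +kernel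
theorem lc : q.lchk C (nat_lit 10) = true := by decide +kernel
theorem wc : allL (ltAll (nat_lit 10)) Ws = true := by decide +kernel
theorem sg : allL (ltAll (nat_lit 10)) Ws = true ∧ (nat_lit 10) ≤ q.Ks ∧ ∀ k < (nat_lit 10), nth [] Ws k = [k] := by decide +kernel
theorem fx0 : ltAll T.n [] = 0 ∧ allL (fixL P (nat_lit 10) []) (pick Ws [nat_lit 0, nat_lit 1, nat_lit 2, nat_lit 3, nat_lit 4, nat_lit 5, nat_lit 6, nat_lit 7, nat_lit 8, nat_lit 9]) = true := by decide +kernel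
theorem r0_1 : reachX T (Nat.pow (nat_lit 3) (nat_lit 19921)) (pick Ws [nat_lit 0, nat_lit 1, nat_lit 2, nat_lit 3, nat_lit 4, nat_lit 5, nat_lit 6, nat_lit 7, nat_lit 8, nat_lit 9]) [nat_lit 9, nat_lit 6, nat_lit 5, nat_lit 4, nat_lit 3, nat_lit 2, nat_lit 7, nat_lit 1, nat_lit 0, nat_lit 8, nat_lit 3, nat_lit 4, nat_lit 2, nat_lit 7, nat_lit 5, nat_lit 6, nat_lit 3, nat_lit 4, nat_lit 2, nat_lit 7, nat_lit 1, nat_lit 0, nat_lit 2, nat_lit 9, nat_lit 5, nat_lit 6, nat_lit 3, nat_lit 2, nat_lit 4, nat_lit 7, nat_lit 8, nat_lit 7, nat_lit 3, nat_lit 2, nat_lit 7, nat_lit 4, nat_lit 5, nat_lit 6, nat_lit 4, nat_lit 9, nat_lit 6, nat_lit 1, nat_lit 0, nat_lit 2, nat_lit 3, nat_lit 2, nat_lit 4, nat_lit 7, nat_lit 1, nat_lit 0, nat_lit 5, nat_lit 4, nat_lit 6, nat_lit 3, nat_lit 2, nat_lit 1] (maskL [(nat_lit 0)]) = m0_1 := by decide +kernel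
theorem pp0 : popM (nat_lit 1584) m0_1 = 31671 ∧ (nat_lit 1584) < 1048575 ∧ 1 * 31671 = 31671 := by decide +kernel
theorem fx1 : ltAll T.n [nat_lit 0] = 0 ∧ allL (fixL P (nat_lit 10) [nat_lit 0]) (pick Ws [nat_lit 18, nat_lit 19, nat_lit 20, nat_lit 30, nat_lit 31, nat_lit 34, nat_lit 40, nat_lit 46, nat_lit 50]) = true := by decide +kernel
theorem r1_1 : reachX T (Nat.pow (nat_lit 3) (nat_lit 19911)) (pick Ws [nat_lit 18, nat_lit 19, nat_lit 20, nat_lit 30, nat_lit 31, nat_lit 34, nat_lit 40, nat_lit 46, nat_lit 50]) [nat_lit 1, nat_lit 2, nat_lit 0, nat_lit 7, nat_lit 6, nat_lit 5, nat_lit 3, nat_lit 1, nat_lit 7, nat_lit 6, nat_lit 8] (maskL [(nat_lit 16235)]) = m1_1 := by decide +kernel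
theorem r1_2 : reachX T (Nat.pow (nat_lit 3) (nat_lit 19947)) (pick Ws [nat_lit 18, nat_lit 19, nat_lit 20, nat_lit 30, nat_lit 31, nat_lit 34, nat_lit 40, nat_lit 46, nat_lit 50]) [nat_lit 5, nat_lit 1, nat_lit 3, nat_lit 7, nat_lit 6, nat_lit 4, nat_lit 5, nat_lit 2] m1_1 = m1_2 := by decide +kernel
theorem pp1 : popM (nat_lit 1584) m1_2 = 28160 ∧ (nat_lit 1584) < 1048575 ∧ 31671 * 28160 = 891855360 := by decide +kernel
theorem fx2 : ltAll T.n [nat_lit 16235, nat_lit 0] = 0 ∧ allL (fixL P (nat_lit 10) [nat_lit 16235, nat_lit 0]) (pick Ws [nat_lit 22, nat_lit 24, nat_lit 30, nat_lit 31, nat_lit 34, nat_lit 40, nat_lit 46, nat_lit 50]) = true := by decide +kernel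
theorem r2_1 : reachX T (Nat.pow (nat_lit 3) (nat_lit 19934)) (pick Ws [nat_lit 22, nat_lit 24, nat_lit 30, nat_lit 31, nat_lit 34, nat_lit 40, nat_lit 46, nat_lit 50]) [nat_lit 2, nat_lit 0, nat_lit 1, nat_lit 6, nat_lit 5, nat_lit 7, nat_lit 4, nat_lit 2, nat_lit 3, nat_lit 5] (maskL [(nat_lit 24936)]) = m2_1 := by decide +kernel
theorem r2_2 : reachX T (Nat.pow (nat_lit 3) (nat_lit 19924)) (pick Ws [nat_lit 22, nat_lit 24, nat_lit 30, nat_lit 31, nat_lit 34, nat_lit 40, nat_lit 46, nat_lit 50]) [nat_lit 6, nat_lit 4, nat_lit 7, nat_lit 2, nat_lit 5, nat_lit 0, nat_lit 3, nat_lit 4, nat_lit 6] m2_1 = m2_2 := by decide +kernel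
theorem pp2 : popM (nat_lit 1584) m2_2 = 21840 ∧ (nat_lit 1584) < 1048575 ∧ 891855360 * 21840 = 19478121062400 := by decide +kernel
theorem fx3 : ltAll T.n [nat_lit 24936, nat_lit 16235, nat_lit 0] = 0 ∧ allL (fixL P (nat_lit 10) [nat_lit 24936, nat_lit 16235, nat_lit 0]) (pick Ws [nat_lit 31, nat_lit 34, nat_lit 35, nat_lit 40, nat_lit 46, nat_lit 48, nat_lit 50]) = true := by decide +kernel
theorem r3_1 : reachX T (Nat.pow (nat_lit 3) (nat_lit 19914)) (pick Ws [nat_lit 31, nat_lit 34, nat_lit 35, nat_lit 40, nat_lit 46, nat_lit 48, nat_lit 50]) [nat_lit 3, nat_lit 1, nat_lit 0, nat_lit 4, nat_lit 3, nat_lit 6, nat_lit 1, nat_lit 5, nat_lit 0, nat_lit 3, nat_lit 4, nat_lit 1, nat_lit 6] (maskL [(nat_lit 14729)]) = m3_1 := by decide +kernel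
theorem r3_2 : reachX T (Nat.pow (nat_lit 3) (nat_lit 19918)) (pick Ws [nat_lit 31, nat_lit 34, nat_lit 35, nat_lit 40, nat_lit 46, nat_lit 48, nat_lit 50]) [nat_lit 0, nat_lit 3, nat_lit 2, nat_lit 4] m3_1 = m3_2 := by decide +kernel
theorem pp3 : popM (nat_lit 1584) m3_2 = 7776 ∧ (nat_lit 1584) < 1048575 ∧ 19478121062400 * 7776 = 151461869381222400 := by decide +kernel
theorem fx4 : ltAll T.n [nat_lit 14729, nat_lit 24936, nat_lit 16235, nat_lit 0] = 0 ∧ allL (fixL P (nat_lit 10) [nat_lit 14729, nat_lit 24936, nat_lit 16235, nat_lit 0]) (pick Ws [nat_lit 45, nat_lit 46, nat_lit 48, nat_lit 50, nat_lit 52]) = true := by decide +kernel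
theorem r4_1 : reachX T (Nat.pow (nat_lit 3) (nat_lit 19923)) (pick Ws [nat_lit 45, nat_lit 46, nat_lit 48, nat_lit 50, nat_lit 52]) [nat_lit 1, nat_lit 3, nat_lit 2, nat_lit 4, nat_lit 0, nat_lit 3] (maskL [(nat_lit 15475)]) = m4_1 := by decide +kernel
theorem pp4 : popM (nat_lit 1584) m4_1 = 27 ∧ (nat_lit 1584) < 1048575 ∧ 151461869381222400 * 27 = 4089470473293004800 := by decide +kernel
theorem wcK : ∀ w ∈ WK, ∀ k ∈ w, [k] ∈ UK := by decide +kernel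
theorem ucK : allL (ltAll (nat_lit 10)) UK = true := by decide +kernel
theorem fxK0 : ltAll T.n [] = 0 ∧ allL (fixL P (nat_lit 10) []) (pick WK [nat_lit 0, nat_lit 1, nat_lit 2, nat_lit 3, nat_lit 4, nat_lit 5, nat_lit 6, nat_lit 7, nat_lit 8]) = true := by decide +kernel
theorem rK0_1 : reachX T (Nat.pow (nat_lit 3) (nat_lit 19912)) (pick WK [nat_lit 0, nat_lit 1, nat_lit 2, nat_lit 3, nat_lit 4, nat_lit 5, nat_lit 6, nat_lit 7, nat_lit 8]) [nat_lit 0, nat_lit 1, nat_lit 2, nat_lit 3, nat_lit 6, nat_lit 4, nat_lit 5, nat_lit 7, nat_lit 2, nat_lit 1, nat_lit 3, nat_lit 6, nat_lit 0, nat_lit 8, nat_lit 2, nat_lit 1, nat_lit 3, nat_lit 6, nat_lit 4, nat_lit 3, nat_lit 5, nat_lit 7, nat_lit 2, nat_lit 3, nat_lit 6, nat_lit 1, nat_lit 0, nat_lit 1, nat_lit 4, nat_lit 3, nat_lit 5, nat_lit 8, nat_lit 2, nat_lit 3, nat_lit 1, nat_lit 6, nat_lit 7, nat_lit 6, nat_lit 5, nat_lit 4, nat_lit 5, nat_lit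 2, nat_lit 1, nat_lit 3, nat_lit 6, nat_lit 0, nat_lit 1, nat_lit 4, nat_lit 5, nat_lit 2, nat_lit 1] (maskL [(nat_lit 3508)]) = mK0_1 := by decide +kernel
theorem ppK0 : popM (nat_lit 1584) mK0_1 = 28431 ∧ (nat_lit 1584) < 1048575 ∧ 1 * 28431 = 28431 := by decide +kernel
theorem fxK1 : ltAll T.n [nat_lit 3508] = 0 ∧ allL (fixL P (nat_lit 10) [nat_lit 3508]) (pick WK [nat_lit 1, nat_lit 2, nat_lit 3, nat_lit 4, nat_lit 5, nat_lit 6, nat_lit 7, nat_lit 8]) = true := by decide +kernel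
theorem rK1_1 : reachX T (Nat.pow (nat_lit 3) (nat_lit 19948)) (pick WK [nat_lit 1, nat_lit 2, nat_lit 3, nat_lit 4, nat_lit 5, nat_lit 6, nat_lit 7, nat_lit 8]) [nat_lit 7, nat_lit 4, nat_lit 3, nat_lit 2, nat_lit 1, nat_lit 0, nat_lit 5, nat_lit 6, nat_lit 1, nat_lit 2, nat_lit 5, nat_lit 3, nat_lit 4, nat_lit 1, nat_lit 0, nat_lit 2, nat_lit 7, nat_lit 3, nat_lit 4, nat_lit 1, nat_lit 5, nat_lit 2, nat_lit 6, nat_lit 1, nat_lit 0, nat_lit 5, nat_lit 3, nat_lit 2, nat_lit 1, nat_lit 2, nat_lit 5, nat_lit 3, nat_lit 4] (maskL [(nat_lit 0)]) = mK1_1 := by decide +kernel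
theorem ppK1 : popM (nat_lit 1584) mK1_1 = 120 ∧ (nat_lit 1584) < 1048575 ∧ 28431 * 120 = 3411720 := by decide +kernel
theorem fxK2 : ltAll T.n [nat_lit 0, nat_lit 3508] = 0 ∧ allL (fixL P (nat_lit 10) [nat_lit 0, nat_lit 3508]) (pick WK [nat_lit 1, nat_lit 2, nat_lit 3, nat_lit 4, nat_lit 5, nat_lit 6, nat_lit 7]) = true := by decide +kernel
theorem rK2_1 : reachX T (Nat.pow (nat_lit 3) (nat_lit 19932)) (pick WK [nat_lit 1, nat_lit 2, nat_lit 3, nat_lit 4, nat_lit 5, nat_lit 6, nat_lit 7]) [nat_lit 4, nat_lit 3, nat_lit 2, nat_lit 1, nat_lit 0, nat_lit 5, nat_lit 6, nat_lit 1, nat_lit 2, nat_lit 5, nat_lit 3, nat_lit 4, nat_lit 1, nat_lit 0, nat_lit 2, nat_lit 1, nat_lit 5, nat_lit 3, nat_lit 2, nat_lit 6, nat_lit 1, nat_lit 0, nat_lit 5, nat_lit 1, nat_lit 2, nat_lit 3, nat_lit 4] (maskL [(nat_lit 17735)]) = mK2_1 := by decide +kernel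
theorem ppK2 : popM (nat_lit 1584) mK2_1 = 56 ∧ (nat_lit 1584) < 1048575 ∧ 3411720 * 56 = 191056320 := by decide +kernel
theorem fxK3 : ltAll T.n [nat_lit 17735, nat_lit 0, nat_lit 3508] = 0 ∧ allL (fixL P (nat_lit 10) [nat_lit 17735, nat_lit 0, nat_lit 3508]) (pick WK [nat_lit 1, nat_lit 2, nat_lit 3, nat_lit 4, nat_lit 6, nat_lit 7]) = true := by decide +kernel
theorem rK3_1 : reachX T (Nat.pow (nat_lit 3) (nat_lit 19949)) (pick WK [nat_lit 1, nat_lit 2, nat_lit 3, nat_lit 4, nat_lit 6, nat_lit 7]) [nat_lit 5, nat_lit 4, nat_lit 1, nat_lit 0, nat_lit 2, nat_lit 3, nat_lit 1, nat_lit 4, nat_lit 2, nat_lit 5, nat_lit 1, nat_lit 0, nat_lit 4, nat_lit 1, nat_lit 2, nat_lit 3] (maskL [(nat_lit 17737)]) = mK3_1 := by decide +kernel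
theorem ppK3 : popM (nat_lit 1584) mK3_1 = 27 ∧ (nat_lit 1584) < 1048575 ∧ 191056320 * 27 = 5158520640 := by decide +kernel
theorem fxK4 : ltAll T.n [nat_lit 17737, nat_lit 17735, nat_lit 0, nat_lit 3508] = 0 ∧ allL (fixL P (nat_lit 10) [nat_lit 17737, nat_lit 17735, nat_lit 0, nat_lit 3508]) (pick WK [nat_lit 1, nat_lit 2, nat_lit 3, nat_lit 4, nat_lit 6]) = true := by decide +kernel
theorem rK4_1 : reachX T (Nat.pow (nat_lit 3) (nat_lit 19943)) (pick WK [nat_lit 1, nat_lit 2, nat_lit 3, nat_lit 4, nat_lit 6]) [nat_lit 3, nat_lit 2, nat_lit 1, nat_lit 0, nat_lit 4, nat_lit 1, nat_lit 2, nat_lit 3] (maskL [(nat_lit 17740)]) = mK4_1 := by decide +kernel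
theorem ppK4 : popM (nat_lit 1584) mK4_1 = 10 ∧ (nat_lit 1584) < 1048575 ∧ 5158520640 * 10 = 51585206400 := by decide +kernel
theorem fxK5 : ltAll T.n [nat_lit 17740, nat_lit 17737, nat_lit 17735, nat_lit 0, nat_lit 3508] = 0 ∧ allL (fixL P (nat_lit 10) [nat_lit 17740, nat_lit 17737, nat_lit 17735, nat_lit 0, nat_lit 3508]) (pick WK [nat_lit 1, nat_lit 2, nat_lit 3, nat_lit 6]) = true := by decide +kernel
theorem rK5_1 : reachX T (Nat.pow (nat_lit 3) (nat_lit 19946)) (pick WK [nat_lit 1, nat_lit 2, nat_lit 3, nat_lit 6]) [nat_lit 0, nat_lit 1, nat_lit 2, nat_lit 3, nat_lit 1, nat_lit 0] (maskL [(nat_lit 755)]) = mK5_1 := by decide +kernel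
theorem ppK5 : popM (nat_lit 1584) mK5_1 = 8 ∧ (nat_lit 1584) < 1048575 ∧ 51585206400 * 8 = 412681651200 := by decide +kernel
theorem fxK6 : ltAll T.n [nat_lit 755, nat_lit 17740, nat_lit 17737, nat_lit 17735, nat_lit 0, nat_lit 3508] = 0 ∧ allL (fixL P (nat_lit 10) [nat_lit 755, nat_lit 17740, nat_lit 17737, nat_lit 17735, nat_lit 0, nat_lit 3508]) (pick WK [nat_lit 2, nat_lit 3, nat_lit 6]) = true := by decide +kernel
theorem rK6_1 : reachX T (Nat.pow (nat_lit 3) (nat_lit 19928)) (pick WK [nat_lit 2, nat_lit 3, nat_lit 6]) [nat_lit 1, nat_lit 0, nat_lit 2] (maskL [(nat_lit 31402)]) = mK6_1 := by decide +kernel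
theorem ppK6 : popM (nat_lit 1584) mK6_1 = 4 ∧ (nat_lit 1584) < 1048575 ∧ 412681651200 * 4 = 1650726604800 := by decide +kernel
theorem fxK7 : ltAll T.n [nat_lit 31402, nat_lit 755, nat_lit 17740, nat_lit 17737, nat_lit 17735, nat_lit 0, nat_lit 3508] = 0 ∧ allL (fixL P (nat_lit 10) [nat_lit 31402, nat_lit 755, nat_lit 17740, nat_lit 17737, nat_lit 17735, nat_lit 0, nat_lit 3508]) (pick WK [nat_lit 2, nat_lit 6]) = true := by decide +kernel
theorem rK7_1 : reachX T (Nat.pow (nat_lit 3) (nat_lit 19906)) (pick WK [nat_lit 2, nat_lit 6]) [nat_lit 1, nat_lit 0] (maskL [(nat_lit 356)]) = mK7_1 := by decide +kernel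
theorem ppK7 : popM (nat_lit 1584) mK7_1 = 3 ∧ (nat_lit 1584) < 1048575 ∧ 1650726604800 * 3 = 4952179814400 := by decide +kernel
theorem fxK8 : ltAll T.n [nat_lit 356, nat_lit 31402, nat_lit 755, nat_lit 17740, nat_lit 17737, nat_lit 17735, nat_lit 0, nat_lit 3508] = 0 ∧ allL (fixL P (nat_lit 10) [nat_lit 356, nat_lit 31402, nat_lit 755, nat_lit 17740, nat_lit 17737, nat_lit 17735, nat_lit 0, nat_lit 3508]) (pick WK [nat_lit 2]) = true := by decide +kernel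
theorem rK8_1 : reachX T (Nat.pow (nat_lit 3) (nat_lit 19914)) (pick WK [nat_lit 2]) [nat_lit 0] (maskL [(nat_lit 351)]) = mK8_1 := by decide +kernel
theorem ppK8 : popM (nat_lit 1584) mK8_1 = 2 ∧ (nat_lit 1584) < 1048575 ∧ 4952179814400 * 2 = 9904359628800 := by decide +kernel

end H15.YB.Y2
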