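import Cfsg.Agent.H15.YB.Y2.D

/-! Generated by tools/h15/yb.py. -/

set_option maxRecDepth 100000
set_option maxHeartbeats 0
set_option Elab.async false

namespace H15.YB.Y2

open H16 H16.DC
open H26 (jn)

theorem sj0_0 : allZ (slJ T (nat_lit 15) (nth [] Ws (nat_lit 0)) (nth (BT.leaf 0) Ts (nat_lit 0))) (nat_lit 0) (nat_lit 15) = true := by decide +kernel
theorem sj1_0 : allZ (slJ T (nat_lit 15) (nth [] Ws (nat_lit 1)) (nth (BT.leaf 0) Ts (nat_lit 1))) (nat_lit 0) (nat_lit 15) = true := by decide +kernel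
theorem sj2_0 : allZ (slJ T (nat_lit 15) (nth [] Ws (nat_lit 2)) (nth (BT.leaf 0) Ts (nat_lit 2))) (nat_lit 0) (nat_lit 15) = true := by decide +kernel
theorem sj3_0 : allZ (slJ T (nat_lit 15) (nth [] Ws (nat_lit 3)) (nth (BT.leaf 0) Ts (nat_lit 3))) (nat_lit 0) (nat_lit 15) = true := by decide +kernel
theorem sj4_0 : allZ (slJ T (nat_lit 15) (nth [] Ws (nat_lit 4)) (nth (BT.leaf 0) Ts (nat_lit 4))) (nat_lit 0) (nat_lit 15) = true := by decide +kernel
theorem sj5_0 : allZ (slJ T (nat_lit 15) (nth [] Ws (nat_lit 5)) (nth (BT.leaf 0) Ts (nat_lit 5))) (nat_lit 0) (nat_lit 15) = true := by decide +kernel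
theorem sj6_0 : allZ (slJ T (nat_lit 15) (nth [] Ws (nat_lit 6)) (nth (BT.leaf 0) Ts (nat_lit 6))) (nat_lit 0) (nat_lit 15) = true := by decide +kernel
theorem sj7_0 : allZ (slJ T (nat_lit 15) (nth [] Ws (nat_lit 7)) (nth (BT.leaf 0) Ts (nat_lit 7))) (nat_lit 0) (nat_lit 15) = true := by decide +kernel
theorem sj8_0 : allZ (slJ T (nat_lit 15) (nth [] Ws (nat_lit 8)) (nth (BT.leaf 0) Ts (nat_lit 8))) (nat_lit 0) (nat_lit 15) = true := by decide +kernel
theorem sj9_0 : allZ (slJ T (nat_lit 15) (nth [] Ws (nat_lit 9)) (nth (BT.leaf 0) Ts (nat_lit 9))) (nat_lit 0) (nat_lit 15) = true := by decide +kernel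
theorem sj10_0 : allZ (slJ T (nat_lit 15) (nth [] Ws (nat_lit 10)) (nth (BT.leaf 0) Ts (nat_lit 10))) (nat_lit 0) (nat_lit 8) = true := by decide +kernel
theorem sj10_1 : allZ (slJ T (nat_lit 15) (nth [] Ws (nat_lit 10)) (nth (BT.leaf 0) Ts (nat_lit 10))) (nat_lit 8) (nat_lit 7) = true := by decide +kernel
theorem sj11_0 : allZ (slJ T (nat_lit 15) (nth [] Ws (nat_lit 11)) (nth (BT.leaf 0) Ts (nat_lit 11))) (nat_lit 0) (nat_lit 8) = true := by decide +kernel
theorem sj11_1 : allZ (slJ T (nat_lit 15) (nth [] Ws (nat_lit 11)) (nth (BT.leaf 0) Ts (nat_lit 11))) (nat_lit 8) (nat_lit 7) = true := by decide +kernel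
theorem sj12_0 : allZ (slJ T (nat_lit 15) (nth [] Ws (nat_lit 12)) (nth (BT.leaf 0) Ts (nat_lit 12))) (nat_lit 0) (nat_lit 8) = true := by decide +kernel
theorem sj12_1 : allZ (slJ T (nat_lit 15) (nth [] Ws (nat_lit 12)) (nth (BT.leaf 0) Ts (nat_lit 12))) (nat_lit 8) (nat_lit 7) = true := by decide +kernel
theorem sj13_0 : allZ (slJ T (nat_lit 15) (nth [] Ws (nat_lit 13)) (nth (BT.leaf 0) Ts (nat_lit 13))) (nat_lit 0) (nat_lit 15) = true := by decide +kernel
theorem sj14_0 : allZ (slJ T (nat_lit 15) (nth [] Ws (nat_lit 14)) (nth (BT.leaf 0) Ts (nat_lit 14))) (nat_lit 0) (nat_lit 15) = true := by decide +kernel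
theorem sj15_0 : allZ (slJ T (nat_lit 15) (nth [] Ws (nat_lit 15)) (nth (BT.leaf 0) Ts (nat_lit 15))) (nat_lit 0) (nat_lit 15) = true := by decide +kernel
theorem sj16_0 : allZ (slJ T (nat_lit 15) (nth [] Ws (nat_lit 16)) (nth (BT.leaf 0) Ts (nat_lit 16))) (nat_lit 0) (nat_lit 15) = true := by decide +kernel
theorem sj17_0 : allZ (slJ T (nat_lit 15) (nth [] Ws (nat_lit 17)) (nth (BT.leaf 0) Ts (nat_lit 17))) (nat_lit 0) (nat_lit 15) = true := by decide +kernel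
theorem sj18_0 : allZ (slJ T (nat_lit 15) (nth [] Ws (nat_lit 18)) (nth (BT.leaf 0) Ts (nat_lit 18))) (nat_lit 0) (nat_lit 15) = true := by decide +kernel
theorem sj19_0 : allZ (slJ T (nat_lit 15) (nth [] Ws (nat_lit 19)) (nth (BT.leaf 0) Ts (nat_lit 19))) (nat_lit 0) (nat_lit 15) = true := by decide +kernel
theorem sj20_0 : allZ (slJ T (nat_lit 15) (nth [] Ws (nat_lit 20)) (nth (BT.leaf 0) Ts (nat_lit 20))) (nat_lit 0) (nat_lit 15) = true := by decide +kernel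
theorem sj21_0 : allZ (slJ T (nat_lit 15) (nth [] Ws (nat_lit 21)) (nth (BT.leaf 0) Ts (nat_lit 21))) (nat_lit 0) (nat_lit 15) = true := by decide +kernel
theorem sj22_0 : allZ (slJ T (nat_lit 15) (nth [] Ws (nat_lit 22)) (nth (BT.leaf 0) Ts (nat_lit 22))) (nat_lit 0) (nat_lit 15) = true := by decide +kernel
theorem sj23_0 : allZ (slJ T (nat_lit 15) (nth [] Ws (nat_lit 23)) (nth (BT.leaf 0) Ts (nat_lit 23))) (nat_lit 0) (nat_lit 15) = true := by decide +kernel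
theorem sj24_0 : allZ (slJ T (nat_lit 15) (nth [] Ws (nat_lit 24)) (nth (BT.leaf 0) Ts (nat_lit 24))) (nat_lit 0) (nat_lit 15) = true := by decide +kernel
theorem sj25_0 : allZ (slJ T (nat_lit 15) (nth [] Ws (nat_lit 25)) (nth (BT.leaf 0) Ts (nat_lit 25))) (nat_lit 0) (nat_lit 15) = true := by decide +kernel
theorem sj26_0 : allZ (slJ T (nat_lit 15) (nth [] Ws (nat_lit 26)) (nth (BT.leaf 0) Ts (nat_lit 26))) (nat_lit 0) (nat_lit 15) = true := by decide +kernel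
theorem sj27_0 : allZ (slJ T (nat_lit 15) (nth [] Ws (nat_lit 27)) (nth (BT.leaf 0) Ts (nat_lit 27))) (nat_lit 0) (nat_lit 15) = true := by decide +kernel
theorem sj28_0 : allZ (slJ T (nat_lit 15) (nth [] Ws (nat_lit 28)) (nth (BT.leaf 0) Ts (nat_lit 28))) (nat_lit 0) (nat_lit 15) = true := by decide +kernel
theorem sj29_0 : allZ (slJ T (nat_lit 15) (nth [] Ws (nat_lit 29)) (nth (BT.leaf 0) Ts (nat_lit 29))) (nat_lit 0) (nat_lit 15) = true := by decide +kernel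
theorem sj30_0 : allZ (slJ T (nat_lit 15) (nth [] Ws (nat_lit 30)) (nth (BT.leaf 0) Ts (nat_lit 30))) (nat_lit 0) (nat_lit 15) = true := by decide +kernel
theorem sj31_0 : allZ (slJ T (nat_lit 15) (nth [] Ws (nat_lit 31)) (nth (BT.leaf 0) Ts (nat_lit 31))) (nat_lit 0) (nat_lit 15) = true := by decide +kernel
theorem sj32_0 : allZ (slJ T (nat_lit 15) (nth [] Ws (nat_lit 32)) (nth (BT.leaf 0) Ts (nat_lit 32))) (nat_lit 0) (nat_lit 15) = true := by decide +kernel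
theorem sj33_0 : allZ (slJ T (nat_lit 15) (nth [] Ws (nat_lit 33)) (nth (BT.leaf 0) Ts (nat_lit 33))) (nat_lit 0) (nat_lit 15) = true := by decide +kernel
theorem sj34_0 : allZ (slJ T (nat_lit 15) (nth [] Ws (nat_lit 34)) (nth (BT.leaf 0) Ts (nat_lit 34))) (nat_lit 0) (nat_lit 15) = true := by decide +kernel
theorem sj35_0 : allZ (slJ T (nat_lit 15) (nth [] Ws (nat_lit 35)) (nth (BT.leaf 0) Ts (nat_lit 35))) (nat_lit 0) (nat_lit 15) = true := by decide +kernel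
theorem sj36_0 : allZ (slJ T (nat_lit 15) (nth [] Ws (nat_lit 36)) (nth (BT.leaf 0) Ts (nat_lit 36))) (nat_lit 0) (nat_lit 15) = true := by decide +kernel
theorem sj37_0 : allZ (slJ T (nat_lit 15) (nth [] Ws (nat_lit 37)) (nth (BT.leaf 0) Ts (nat_lit 37))) (nat_lit 0) (nat_lit 15) = true := by decide +kernel
theorem sj38_0 : allZ (slJ T (nat_lit 15) (nth [] Ws (nat_lit 38)) (nth (BT.leaf 0) Ts (nat_lit 38))) (nat_lit 0) (nat_lit 15) = true := by decide +kernel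
theorem sj39_0 : allZ (slJ T (nat_lit 15) (nth [] Ws (nat_lit 39)) (nth (BT.leaf 0) Ts (nat_lit 39))) (nat_lit 0) (nat_lit 15) = true := by decide +kernel
theorem sj40_0 : allZ (slJ T (nat_lit 15) (nth [] Ws (nat_lit 40)) (nth (BT.leaf 0) Ts (nat_lit 40))) (nat_lit 0) (nat_lit 15) = true := by decide +kernel
theorem sj41_0 : allZ (slJ T (nat_lit 15) (nth [] Ws (nat_lit 41)) (nth (BT.leaf 0) Ts (nat_lit 41))) (nat_lit 0) (nat_lit 15) = true := by decide +kernel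
theorem sj42_0 : allZ (slJ T (nat_lit 15) (nth [] Ws (nat_lit 42)) (nth (BT.leaf 0) Ts (nat_lit 42))) (nat_lit 0) (nat_lit 15) = true := by decide +kernel
theorem sj43_0 : allZ (slJ T (nat_lit 15) (nth [] Ws (nat_lit 43)) (nth (BT.leaf 0) Ts (nat_lit 43))) (nat_lit 0) (nat_lit 15) = true := by decide +kernel
theorem sj44_0 : allZ (slJ T (nat_lit 15) (nth [] Ws (nat_lit 44)) (nth (BT.leaf 0) Ts (nat_lit 44))) (nat_lit 0) (nat_lit 15) = true := by decide +kernel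
theorem sj45_0 : allZ (slJ T (nat_lit 15) (nth [] Ws (nat_lit 45)) (nth (BT.leaf 0) Ts (nat_lit 45))) (nat_lit 0) (nat_lit 15) = true := by decide +kernel
theorem sj46_0 : allZ (slJ T (nat_lit 15) (nth [] Ws (nat_lit 46)) (nth (BT.leaf 0) Ts (nat_lit 46))) (nat_lit 0) (nat_lit 15) = true := by decide +kernel

end H15.YB.Y2
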